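import Groth.Prelude.Def_Pi1
import Mathlib.Algebra.Module.CharacterModule
import Mathlib.RingTheory.Flat.Basic
import Mathlib.RingTheory.Smooth.Fiber
import Mathlib.RingTheory.Etale.Descent

/-!
# Descent of finiteness and flatness along universally injective ring maps
-/

universe u

open scoped TensorProduct
open TensorProduct

namespace Groth.Agent.UnivInj.Descent

variable {R S : Type u} [CommRing R] [CommRing S] [Algebra R S]

theorem injective_one_tmul (h : Pi1.UnivInjective R S) (M : Type u) [AddCommGroup M] [Module R M] :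
    Function.Injective (fun m : M => (1 : S) ⊗ₜ[R] m) := by
  intro a b hab
  have h1 : LinearMap.lTensor M (Algebra.linearMap R S) (a ⊗ₜ 1) =
      LinearMap.lTensor M (Algebra.linearMap R S) (b ⊗ₜ 1) := by
    have := congrArg (TensorProduct.comm R S M) hab
    simpa using this
  simpa using congrArg (TensorProduct.rid R M) (h M h1)

theorem subsingleton_of_tensor (h : Pi1.UnivInjective R S) (M : Type u) [AddCommGroup M] [Module R M]
    [Subsingleton (S ⊗[R] M)] : Subsingleton M :=
  (injective_one_tmul h M).subsingleton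

theorem surjective_of_lTensor (h : Pi1.UnivInjective R S) {N : Type*} [AddCommGroup N] [Module R N]
    {M : Type u} [AddCommGroup M] [Module R M] (f : N →ₗ[R] M)
    (hf : Function.Surjective (f.lTensor S)) : Function.Surjective f := by
  have hex := lTensor_exact S (LinearMap.exact_map_mkQ_range f) (Submodule.mkQ_surjective _)
  have h0 : ∀ y, (LinearMap.range f).mkQ.lTensor S y = 0 := fun y => (hex y).mpr (hf y)
  intro m
  have h1 : (1 : S) ⊗ₜ[R] (LinearMap.range f).mkQ m = (1 : S) ⊗ₜ[R] 0 := by
    simpa using h0 (1 ⊗ₜ m)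
  have h2 := injective_one_tmul h _ h1
  rwa [Submodule.mkQ_apply, Submodule.Quotient.mk_eq_zero] at h2

theorem injective_of_lTensor (h : Pi1.UnivInjective R S) {N : Type u} [AddCommGroup N] [Module R N]
    {M : Type*} [AddCommGroup M] [Module R M] (f : N →ₗ[R] M)
    (hf : Function.Injective (f.lTensor S)) : Function.Injective f := fun a b hab =>
  injective_one_tmul h N (hf (by simp [hab]))

theorem finite (h : Pi1.UnivInjective R S) (M : Type u) [AddCommGroup M] [Module R M]
    [Module.Finite S (S ⊗[R] M)] : Module.Finite R M := by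
  obtain ⟨n, s, hs⟩ := Module.Finite.exists_fin (R := S) (M := S ⊗[R] M)
  choose k t m hm using fun i : Fin n ↦ TensorProduct.exists_sum_tmul_eq (s i)
  let f₀ : ((Σ i, Fin (k i)) → R) →ₗ[R] M := (Pi.basisFun R _).constr R fun ⟨i, j⟩ ↦ m i j
  refine .of_surjective f₀ (surjective_of_lTensor h f₀ ?_)
  have : Function.Surjective (AlgebraTensorModule.lTensor S S f₀) := by
    rw [← LinearMap.range_eq_top, eq_top_iff, ← hs, Submodule.span_le, Set.range_subset_iff]
    intro i
    use ∑ (j : Fin (k i)), t i j ⊗ₜ Pi.basisFun R _ ⟨i, j⟩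
    simp [f₀, -Pi.basisFun_equivFun, -Pi.basisFun_apply, hm i]
  exact this

theorem finitePresentation (h : Pi1.UnivInjective R S) (M : Type u) [AddCommGroup M] [Module R M]
    [Module.FinitePresentation S (S ⊗[R] M)] : Module.FinitePresentation R M := by
  classical
  have := finite h M
  obtain ⟨n, f, hf⟩ := Module.Finite.exists_fin' R M
  let fS := AlgebraTensorModule.lTensor S S f
  have hfS : Function.Surjective fS := LinearMap.lTensor_surjective S hf
  have hkfg : (LinearMap.ker fS).FG := Module.FinitePresentation.fg_ker fS hfS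
  obtain ⟨T, hT⟩ := hkfg
  have hrange : ∀ x ∈ T, ∃ y, (LinearMap.ker f).subtype.lTensor S y = x := by
    intro x hx
    have hx' : fS x = 0 := LinearMap.mem_ker.mp (hT ▸ Submodule.subset_span hx)
    exact ((lTensor_exact S (LinearMap.exact_subtype_ker_map f) hf) x).mp hx'
  choose y hy using hrange
  choose W hW using fun z : S ⊗[R] LinearMap.ker f => TensorProduct.exists_finset (R := R) z
  let G : Finset (Fin n → R) := T.attach.biUnion fun x => (W (y x.1 x.2)).image fun p => (p.2 : Fin n → R)
  let K' : Submodule R (Fin n → R) := Submodule.span R G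
  have hK' : K' ≤ LinearMap.ker f := by
    rw [Submodule.span_le]
    intro z hz
    simp only [G, Finset.coe_biUnion, Finset.coe_image, Set.mem_iUnion, Set.mem_image] at hz
    obtain ⟨x, _, p, _, rfl⟩ := hz
    exact p.2.2
  let g : ((Fin n → R) ⧸ K') →ₗ[R] M := K'.liftQ f hK'
  let mkS := AlgebraTensorModule.lTensor S S K'.mkQ
  have hTker : ∀ x ∈ T, mkS x = 0 := by
    intro x hx
    rw [← hy x hx, hW (y x hx)]
    simp only [map_sum, LinearMap.lTensor_tmul, mkS, AlgebraTensorModule.lTensor_tmul]
    refine Finset.sum_eq_zero fun p hp => ?_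
    have : (p.2 : Fin n → R) ∈ K' := by
      refine Submodule.subset_span ?_
      simp only [G, Finset.coe_biUnion, Finset.coe_image, Set.mem_iUnion, Set.mem_image]
      exact ⟨⟨x, hx⟩, Finset.mem_attach _ _, p, hp, rfl⟩
    rw [Submodule.mkQ_apply, Submodule.coe_subtype, (Submodule.Quotient.mk_eq_zero K').mpr this,
      TensorProduct.tmul_zero]
  have hker : LinearMap.ker fS ≤ LinearMap.ker mkS := by
    rw [← hT, Submodule.span_le]
    exact fun x hx => hTker x hx
  have hg : Function.Injective (g.lTensor S) := by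
    intro a b hab
    obtain ⟨a, rfl⟩ := LinearMap.lTensor_surjective S K'.mkQ_surjective a
    obtain ⟨b, rfl⟩ := LinearMap.lTensor_surjective S K'.mkQ_surjective b
    have hcomp : ∀ z, g.lTensor S (K'.mkQ.lTensor S z) = fS z := by
      intro z
      rw [← LinearMap.comp_apply, ← LinearMap.lTensor_comp, show g ∘ₗ K'.mkQ = f from K'.liftQ_mkQ f hK']
      rfl
    rw [hcomp, hcomp, ← sub_eq_zero, ← map_sub] at hab
    have := hker (LinearMap.mem_ker.mpr hab)
    rw [LinearMap.mem_ker, map_sub, sub_eq_zero] at this
    exact this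
  have hginj := injective_of_lTensor h g hg
  have : Module.FinitePresentation R ((Fin n → R) ⧸ K') :=
    Module.finitePresentation_of_surjective _ K'.mkQ_surjective
      (by rw [Submodule.ker_mkQ]; exact ⟨G, rfl⟩)
  exact Module.FinitePresentation.of_equiv (LinearEquiv.ofBijective g ⟨hginj, fun m => by
    obtain ⟨x, rfl⟩ := hf m
    exact ⟨K'.mkQ x, rfl⟩⟩)

theorem finiteType (h : Pi1.UnivInjective R S) (A : Type u) [CommRing A] [Algebra R A]
    [Algebra.FiniteType S (S ⊗[R] A)] : Algebra.FiniteType R A := by
  obtain ⟨s, hs⟩ := Algebra.FiniteType.out (R := S) (A := S ⊗[R] A)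
  have := fun x : s => TensorProduct.exists_sum_tmul_eq x.1
  choose k t m hm using this
  let f : MvPolynomial (Σ x : s, Fin (k x)) R →ₐ[R] A := MvPolynomial.aeval (fun ⟨x, i⟩ ↦ m x i)
  refine Algebra.FiniteType.of_surjective f (surjective_of_lTensor h f.toLinearMap ?_)
  have hf : Function.Surjective (Algebra.TensorProduct.map (.id S S) f) := by
    rw [← AlgHom.range_eq_top, _root_.eq_top_iff, ← hs, Algebra.adjoin_le_iff]
    intro x hx
    let i : s := ⟨x, hx⟩
    use ∑ (j : Fin (k i)), t i j ⊗ₜ MvPolynomial.X ⟨i, j⟩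
    simp [f, ← hm, i]
  exact hf

theorem algFinitePresentation (h : Pi1.UnivInjective R S) (A : Type u) [CommRing A] [Algebra R A]
    [Algebra.FinitePresentation S (S ⊗[R] A)] : Algebra.FinitePresentation R A := by
  classical
  have := finiteType h A
  obtain ⟨n, f, hf⟩ := Algebra.FiniteType.iff_quotient_mvPolynomial''.mp this
  let fS := Algebra.TensorProduct.map (AlgHom.id S S) f
  have hfS : Function.Surjective fS := LinearMap.lTensor_surjective S (g := f.toLinearMap) hf
  have hkfg : (RingHom.ker fS.toRingHom).FG := Algebra.FinitePresentation.ker_fG_of_surjective fS hfS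
  obtain ⟨T, hT⟩ := hkfg
  have hrange : ∀ x ∈ T, ∃ y, (LinearMap.ker f.toLinearMap).subtype.lTensor S y = x := by
    intro x hx
    have hx' : fS x = 0 := RingHom.mem_ker.mp (hT ▸ Submodule.subset_span hx)
    exact ((lTensor_exact S (LinearMap.exact_subtype_ker_map f.toLinearMap) hf) x).mp hx'
  choose y hy using hrange
  choose W hW using fun z : S ⊗[R] LinearMap.ker f.toLinearMap => TensorProduct.exists_finset (R := R) z
  let G : Finset (MvPolynomial (Fin n) R) :=
    T.attach.biUnion fun x => (W (y x.1 x.2)).image fun p => (p.2 : MvPolynomial (Fin n) R)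
  let I : Ideal (MvPolynomial (Fin n) R) := Ideal.span G
  have hI : I ≤ RingHom.ker f.toRingHom := by
    rw [Ideal.span_le]
    intro z hz
    simp only [G, Finset.coe_biUnion, Finset.coe_image, Set.mem_iUnion, Set.mem_image] at hz
    obtain ⟨x, _, p, _, rfl⟩ := hz
    exact p.2.2
  let g : (MvPolynomial (Fin n) R ⧸ I) →ₐ[R] A := Ideal.Quotient.liftₐ I f hI
  let mkS := Algebra.TensorProduct.map (AlgHom.id S S) (Ideal.Quotient.mkₐ R I)
  have hTker : ∀ x ∈ T, mkS x = 0 := by
    intro x hx
    rw [← hy x hx, hW (y x hx)]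
    simp only [map_sum, LinearMap.lTensor_tmul, mkS, Algebra.TensorProduct.map_tmul]
    refine Finset.sum_eq_zero fun p hp => ?_
    have : (p.2 : MvPolynomial (Fin n) R) ∈ I := by
      refine Ideal.subset_span ?_
      simp only [G, Finset.coe_biUnion, Finset.coe_image, Set.mem_iUnion, Set.mem_image]
      exact ⟨⟨x, hx⟩, Finset.mem_attach _ _, p, hp, rfl⟩
    rw [Submodule.coe_subtype, Ideal.Quotient.mkₐ_eq_mk, Ideal.Quotient.eq_zero_iff_mem.mpr this,
      TensorProduct.tmul_zero]
  have hker : RingHom.ker fS.toRingHom ≤ RingHom.ker mkS.toRingHom := by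
    rw [← hT, Submodule.span_le]
    exact fun x hx => hTker x hx
  have hg : Function.Injective (g.toLinearMap.lTensor S) := by
    intro a b hab
    obtain ⟨a, rfl⟩ := LinearMap.lTensor_surjective S (g := (Ideal.Quotient.mkₐ R I).toLinearMap)
      Ideal.Quotient.mk_surjective a
    obtain ⟨b, rfl⟩ := LinearMap.lTensor_surjective S (g := (Ideal.Quotient.mkₐ R I).toLinearMap)
      Ideal.Quotient.mk_surjective b
    have hcomp : ∀ z, g.toLinearMap.lTensor S ((Ideal.Quotient.mkₐ R I).toLinearMap.lTensor S z) = fS z := by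
      intro z
      rw [← LinearMap.comp_apply, ← LinearMap.lTensor_comp,
        show g.toLinearMap ∘ₗ (Ideal.Quotient.mkₐ R I).toLinearMap = f.toLinearMap from LinearMap.ext fun _ => rfl]
      rfl
    rw [hcomp, hcomp, ← sub_eq_zero, ← map_sub] at hab
    have h' : mkS (a - b) = 0 := hker (RingHom.mem_ker.mpr hab)
    rw [map_sub, sub_eq_zero] at h'
    exact h'
  have hginj := injective_of_lTensor h g.toLinearMap hg
  have : Algebra.FinitePresentation R (MvPolynomial (Fin n) R ⧸ I) :=
    Algebra.FinitePresentation.quotient ⟨G, rfl⟩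
  exact Algebra.FinitePresentation.equiv (AlgEquiv.ofBijective g ⟨hginj, fun m => by
    obtain ⟨x, rfl⟩ := hf m
    exact ⟨Ideal.Quotient.mk I x, rfl⟩⟩)

/-- The linear map to the dual of `R` attached to a character: `p ↦ (r ↦ χ (r • p))`. -/
noncomputable def toDualR {P : Type u} [AddCommGroup P] [Module R P] (χ : CharacterModule P) :
    P →ₗ[R] CharacterModule R :=
  CharacterModule.curry (CharacterModule.dual (TensorProduct.rid R P).toLinearMap χ)

@[simp] theorem toDualR_apply {P : Type u} [AddCommGroup P] [Module R P] (χ : CharacterModule P) (p : P) (r : R) :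
    toDualR χ p r = χ (r • p) := rfl

theorem exists_dual_section (h : Pi1.UnivInjective R S) :
    ∃ σ : CharacterModule R →ₗ[R] CharacterModule S, ∀ c r, σ c (algebraMap R S r) = c r := by
  obtain ⟨e', he'⟩ := CharacterModule.dual_surjective_of_injective _ (h (CharacterModule R))
    (CharacterModule.uncurry (LinearMap.id : CharacterModule R →ₗ[R] CharacterModule R))
  exact ⟨CharacterModule.curry e', fun c r => congr($he' (c ⊗ₜ r))⟩

theorem exact_ker_rTensor {S : Type u} [CommRing S] (Q : Type u) [AddCommGroup Q] [Module S Q]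
    [Module.Flat S Q] {P P' : Type u} [AddCommGroup P] [AddCommGroup P'] [Module S P] [Module S P']
    (g : P →ₗ[S] P') : Function.Exact ((LinearMap.ker g).subtype.rTensor Q) (g.rTensor Q) :=
  Module.Flat.rTensor_exact Q (LinearMap.exact_subtype_ker_map g)

theorem flat (h : Pi1.UnivInjective R S) (M : Type u) [AddCommGroup M] [Module R M]
    [Module.Flat S (S ⊗[R] M)] : Module.Flat R M := by
  obtain ⟨σ, hσ⟩ := exists_dual_section h
  rw [Module.Flat.iff_rTensor_preserves_injective_linearMap]
  intro N N' _ _ _ _ f hf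
  rw [injective_iff_map_eq_zero]
  intro x hx
  refine CharacterModule.eq_zero_of_character_apply fun φ => ?_
  let φ' : CharacterModule (S ⊗[R] (N ⊗[R] M)) :=
    CharacterModule.dual (TensorProduct.comm R S (N ⊗[R] M)).toLinearMap
      (CharacterModule.uncurry (σ ∘ₗ toDualR φ))
  have hφ'_tmul : ∀ (s : S) y, φ' (s ⊗ₜ y) = σ (toDualR φ y) s := fun s y => rfl
  have h1 : φ' (1 ⊗ₜ x) = φ x := by
    rw [hφ'_tmul]
    simpa using hσ (toDualR φ x) 1
  rw [← h1]
  let d := AlgebraTensorModule.distribBaseChange R S N M
  let fS := f.baseChange S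
  have hex := exact_ker_rTensor (S ⊗[R] M) fS
  have hd : ∀ y, fS.rTensor (S ⊗[R] M) (d y) =
      AlgebraTensorModule.distribBaseChange R S N' M ((f.rTensor M).baseChange S y) := by
    intro y
    induction y using TensorProduct.induction_on with
    | zero => simp
    | tmul s y =>
      induction y using TensorProduct.induction_on with
      | zero => simp
      | tmul n m => simp [d, fS]
      | add a b ha hb => simp only [TensorProduct.tmul_add, map_add, ha, hb]
    | add a b ha hb => simp only [map_add, ha, hb]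
  have hdx : fS.rTensor (S ⊗[R] M) (d (1 ⊗ₜ x)) = 0 := by
    rw [hd]; simp [hx]
  obtain ⟨z, hz⟩ := (hex _).mp hdx
  rw [← d.symm_apply_apply (1 ⊗ₜ x), ← hz]
  clear hz
  induction z using TensorProduct.induction_on with
  | zero => simp
  | add a b ha hb => simp only [map_add, ha, hb, add_zero]
  | tmul k w =>
    induction w using TensorProduct.induction_on with
    | zero => simp
    | add a b ha hb => simp only [TensorProduct.tmul_add, map_add, ha, hb, add_zero]
    | tmul s m =>
      let j : N →ₗ[R] N ⊗[R] M := (TensorProduct.mk R N M).flip m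
      obtain ⟨χ, hχ⟩ := CharacterModule.dual_surjective_of_injective f hf (CharacterModule.dual j φ)
      have hχ' : ∀ n, χ (f n) = φ (n ⊗ₜ m) := fun n => congr($hχ n)
      let ψ : CharacterModule (S ⊗[R] N') :=
        CharacterModule.dual (TensorProduct.comm R S N').toLinearMap
          (CharacterModule.uncurry (σ ∘ₗ toDualR χ))
      have hψ_tmul : ∀ (s : S) y, ψ (s ⊗ₜ y) = σ (toDualR χ y) s := fun s y => rfl
      have key : ∀ q : S ⊗[R] N, φ' (d.symm (q ⊗ₜ (s ⊗ₜ m))) = ψ (s • fS q) := by
        intro q
        induction q using TensorProduct.induction_on with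
        | zero => simp
        | add a b ha hb => simp only [TensorProduct.add_tmul, map_add, smul_add, ha, hb]
        | tmul a n =>
          have e1 : toDualR (R := R) φ (n ⊗ₜ[R] m) = toDualR (R := R) χ (f n) := by
            ext r
            rw [toDualR_apply, toDualR_apply, ← map_smul f, hχ', TensorProduct.smul_tmul']
          rw [show d.symm ((a ⊗ₜ n) ⊗ₜ (s ⊗ₜ m)) = (a * s) ⊗ₜ (n ⊗ₜ m) from
            AlgebraTensorModule.distribBaseChange_symm_tmul R S n m a s, hφ'_tmul, LinearMap.baseChange_tmul,
            TensorProduct.smul_tmul', hψ_tmul, e1, smul_eq_mul, mul_comm]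
      rw [LinearMap.rTensor_tmul, key, Submodule.coe_subtype, LinearMap.mem_ker.mp k.2, smul_zero, map_zero]

theorem etale (h : Pi1.UnivInjective R S) (A : Type u) [CommRing A] [Algebra R A]
    [Algebra.Etale S (S ⊗[R] A)] : Algebra.Etale R A := by
  have := algFinitePresentation h A
  have := flat h A
  have : Algebra.FormallyUnramified R A := by
    constructor
    let _ : Algebra A (S ⊗[R] A) := Algebra.TensorProduct.rightAlgebra
    have : Subsingleton (S ⊗[R] Ω[A⁄R]) :=
      (KaehlerDifferential.tensorKaehlerEquivBase R S A (S ⊗[R] A)).subsingleton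
    exact subsingleton_of_tensor h _
  exact Algebra.Etale.of_formallyUnramified_of_flat

end Groth.Agent.UnivInj.Descent
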